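import Cfsg.Agent.Helper98.StemKit.Glue
import Cfsg.Agent.Helper98.HeMult.Reduce
import Cfsg.Agent.Helper66.SchurBasic

/-!
# Packed certificates, fusion, and the end of the argument for one prime

The generic form of `Helper98/HeMult/Finish.lean` and `Final.lean`, over a word oracle.
-/

set_option autoImplicit false
set_option linter.unusedSectionVars false

namespace Cfsg.Agent.Helper98.StemKit

open Cfsg.Agent.Helper7.ModTC

universe u

/-- packed data of a labelled coset table: the nodes are split into chunks of `cs` nodes -/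
structure Pk where
  /-- number of nodes -/
  N : ℕ
  /-- number of generators -/
  k : ℕ
  /-- number of relators -/
  m : ℕ
  /-- nodes per chunk -/
  cs : ℕ
  /-- width of a node -/
  wN : ℕ
  /-- width of a rank -/
  wR : ℕ
  /-- width of a word -/
  wT : ℕ
  /-- width of a coordinate of a label -/
  wL : ℕ
  /-- the table -/
  tabL : List (List ℕ)
  /-- the ranks -/
  rkL : List (List ℕ)
  /-- the justifications -/
  jtL : List (List ℕ)
  /-- the labels -/
  labL : List (List ℕ)
  /-- the words of the nodes -/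
  twL : List (List ℕ)
  /-- the relators -/
  relsL : List (List ℕ)
  /-- the words with zero exponent sums -/
  zwsL : List (List ℕ)

namespace Pk

variable (P : Pk)

/-- field of an edge -/
def ed (L : List (List ℕ)) (w c l : ℕ) : ℕ :=
  fd (chunk L (c / P.cs)) w ((c % P.cs) * (2 * P.k) + l)

/-- decode a word: the length in five bits, then letters of three bits -/
def decW (n : ℕ) : List ℕ := (List.range (n % 32)).map fun i => (n >>> (5 + 3 * i)) % 8

/-- decode a label -/
def decV (n : ℕ) : List ℤ :=
  (List.range P.m).map fun j => (((n >>> (P.wL * j)) % 2 ^ P.wL : ℕ) : ℤ) - (2 ^ (P.wL - 1) : ℕ)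

/-- the certificate -/
def cert : Cert where
  N := P.N
  nl := 2 * P.k
  tab := fun c l => P.ed P.tabL P.wN c l
  tw := fun c => decW (fd (chunk P.twL (c / P.cs)) P.wT (c % P.cs))
  lab := fun c l => P.decV (P.ed P.labL (P.wL * P.m) c l)
  rk := fun c l => P.ed P.rkL P.wR c l
  kind := fun c l => P.ed P.jtL (14 + P.wN) c l % 4
  jb := fun c l => P.ed P.jtL (14 + P.wN) c l / 512 % 32
  jr := fun c l => P.ed P.jtL (14 + P.wN) c l / 8 % 64
  jf := fun c l => P.ed P.jtL (14 + P.wN) c l / 4 % 2 == 1
  js := fun c l => P.ed P.jtL (14 + P.wN) c l / 16384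
  base := mkBase P.m P.k (fun b => P.relsL.getD b []) (fun i => P.zwsL.getD i [])

end Pk

/-- the multiples of the unit vectors -/
def expVecs (p : ℤ) (m : ℕ) : List (List ℤ) := (List.range m).map fun j => vsmul p (padUnit m j)

/-- the exponent sums of the relators in the free generators: only the `i`-th relator involves
the free generator `i` -/
def esChk (a m : ℕ) (relsL : List (List ℕ)) : Bool :=
  (List.range a).all fun i => (List.range m).all fun j =>
    if j = i then (esum (relsL.getD j [])).getD i 0 != 0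
    else (esum (relsL.getD j [])).getD i 0 == 0

theorem esChk_spec {a m : ℕ} {relsL : List (List ℕ)} (hl : relsL.length ≤ m)
    (h : esChk a m relsL = true) (i : ℕ) (hi : i < a) (him : i < m) :
    (esum (relsL.getD i [])).getD i 0 ≠ 0 ∧
      ∀ j, j ≠ i → (esum (relsL.getD j [])).getD i 0 = 0 := by
  simp only [esChk, List.all_eq_true, List.mem_range] at h
  constructor
  · have := h i hi i him
    rw [if_pos rfl] at this
    simpa using this
  · intro j hj
    rcases Nat.lt_or_ge j m with hjm | hjm
    · have := h i hi j hjm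
      rw [if_neg hj] at this
      simpa using this
    · have e : relsL.getD j [] = [] := List.getD_eq_default _ _ (by omega)
      rw [e]
      rfl

/-- the unit vectors from `a` on are the stated combinations of the relation vectors -/
def linChk (a m : ℕ) (U ρs : List (List ℤ)) : Bool :=
  (List.range m).all fun j => decide (j < a) || (lincomb (U.getD j []) ρs == padUnit m j)

theorem linChk_spec {a m : ℕ} {U ρs : List (List ℤ)} (h : linChk a m U ρs = true) :
    ∀ j, a ≤ j → j < m → lincomb (U.getD j []) ρs = padUnit m j := by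
  intro j haj hj
  simp only [linChk, List.all_eq_true, List.mem_range, Bool.or_eq_true, decide_eq_true_eq,
    beq_iff_eq] at h
  rcases h j hj with h1 | h1
  · omega
  · exact h1

/-! ### conjugacy in the group from words that are trivial -/

section Conj

variable {G : Type u} [Group G] (O : Oracle G)

/-- conjugacy in the group from a word that passes the test -/
theorem conj_of_fix {li : List (List ℕ)} (hli : liOK O.toChk li = true) (hw u₁ u₂ : List ℕ)
    (h : O.fixB (O.invW hw ++ expand li u₁ ++ hw ++ O.invW (expand li u₂)) = true) :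
    (O.el hw)⁻¹ * ev (xOf O li) u₁ * O.el hw = ev (xOf O li) u₂ := by
  have h1 := O.el_eq_one _ h
  rw [O.el_append, O.el_append, O.el_append, O.el_invW, O.el_invW, ← ev_xOf O hli,
    ← ev_xOf O hli] at h1
  exact mul_inv_eq_one.1 h1

/-- simultaneous conjugacy of two lists of words in the letters of the subgroup, by the element
of the word `hw` in the letters of the oracle -/
def conjChk (C : Chk) (li : List (List ℕ)) (hw : List ℕ) (us vs : List (List ℕ)) : Bool :=
  (us.length == vs.length) && (List.range us.length).all fun i =>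
    C.fixB (C.invW hw ++ expand li (us.getD i []) ++ hw ++ C.invW (expand li (vs.getD i [])))

theorem conjChk_spec {li : List (List ℕ)} (hli : liOK O.toChk li = true) {hw : List ℕ}
    {us vs : List (List ℕ)} (h : conjChk O.toChk li hw us vs = true) (i : ℕ) :
    (O.el hw)⁻¹ * ev (xOf O li) (us.getD i []) * O.el hw = ev (xOf O li) (vs.getD i []) := by
  simp only [conjChk, Bool.and_eq_true, beq_iff_eq, List.all_eq_true, List.mem_range] at h
  rcases Nat.lt_or_ge i us.length with hi | hi
  · exact conj_of_fix O hli _ _ _ (h.2 i hi)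
  · rw [List.getD_eq_default _ _ hi, List.getD_eq_default _ _ (by omega)]
    simp

end Conj

/-! ### substitution of words for letters -/

/-- substitute the words `us` for the generators in the word `r` -/
def substW (us : List (List ℕ)) : List ℕ → List ℕ
  | [] => []
  | l :: r => (if l % 2 = 0 then us.getD (l / 2) [] else invW (us.getD (l / 2) [])) ++ substW us r

theorem ev_substW {Γ : Type u} [Group Γ] (X : ℕ → Γ) (us : List (List ℕ)) (r : List ℕ) :
    ev X (substW us r) = ev (fun i => ev X (us.getD i [])) r := by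
  induction r with
  | nil => rfl
  | cons l r ih =>
    rw [substW, ev_append, ih, ev_cons]
    congr 1
    unfold evL
    split_ifs
    · rfl
    · rw [ev_invW]

/-- the word `w` repeated `n` times -/
def powW (w : List ℕ) (n : ℕ) : List ℕ := (List.replicate n w).flatten

theorem ev_powW {Γ : Type u} [Group Γ] (X : ℕ → Γ) (w : List ℕ) (n : ℕ) :
    ev X (powW w n) = ev X w ^ n := by
  unfold powW
  induction n with
  | zero => simp
  | succ n ih => rw [List.replicate_succ, List.flatten_cons, ev_append, ih, pow_succ']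

/-- all the entries are multiples of `p` -/
def allDvd (p : ℤ) (v : List ℤ) : Bool := v.all fun e => e % p == 0

section Fin

variable {G : Type u} [Group G] {Γ : Type u} [Group Γ]

theorem zpv_expVecs {z : ℕ → Γ} (hz : ∀ j, z j ∈ Subgroup.center Γ) (p : ℕ) (m : ℕ)
    (hexp : ∀ j, z j ^ p = 1) : ∀ ρ ∈ expVecs (p : ℤ) m, zpv z 0 ρ = 1 := by
  intro ρ hρ
  simp only [expVecs, List.mem_map, List.mem_range] at hρ
  obtain ⟨j, _, rfl⟩ := hρ
  rw [zpv_vsmul hz, zpv_padUnit, zpow_natCast, hexp]

theorem zpv_allDvd (κ : ℕ → Γ) (p : ℕ) (hκ : ∀ i, κ i ^ p = 1) (v : List ℤ)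
    (hv : allDvd (p : ℤ) v = true) (j : ℕ) : zpv κ j v = 1 := by
  induction v generalizing j with
  | nil => rfl
  | cons e v ih =>
    simp only [allDvd, List.all_cons, Bool.and_eq_true, beq_iff_eq] at hv
    have h2 : allDvd (p : ℤ) v = true := by
      simp only [allDvd]
      exact hv.2
    rw [zpv_cons, ih h2, mul_one]
    obtain ⟨c, hc⟩ := Int.dvd_of_emod_eq_zero hv.1
    rw [hc, zpow_mul, zpow_natCast, hκ, one_zpow]

/-- the end of the argument: the relation vectors generate enough, so the `index`-th powers of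
the elements of the kernel vanish -/
theorem finish [Finite Γ] (O : Oracle G) (σ : Γ →* G) (p : ℕ) (hexp : ∀ g ∈ σ.ker, g ^ p = 1)
    (S : Subgroup G) (N : ℕ) (hN : Nat.card S = N) (hcop : Nat.Coprime (O.card / N) p)
    (hcard : O.card ≠ 0)
    (z : ℕ → Γ) (hz : ∀ j, z j ∈ Subgroup.center Γ) (a m : ℕ) (ham : a ≤ m)
    (hzm : ∀ j, m ≤ j → z j = 1)
    (relsL : List (List ℕ)) (hl : relsL.length ≤ m) (hes : esChk a m relsL = true)
    (ρs : List (List ℤ)) (hρ : ∀ ρ ∈ ρs, zpv z 0 ρ = 1) (U : List (List ℤ))
    (hU : ∀ j, a ≤ j → j < m → lincomb (U.getD j []) ρs = padUnit m j)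
    (hpow : ∀ g ∈ σ.ker, ∃ w : List ℤ, g ^ S.index = zpv z 0 w ∧
      ∀ i < a, trk (fun b => relsL.getD b []) i w = 0) : σ.ker = ⊥ := by
  have hidx : S.index = O.card / N := by
    have h1 := Subgroup.card_mul_index S
    rw [hN, O.card_eq] at h1
    rw [← h1]
    rcases Nat.eq_zero_or_pos N with h0 | h0
    · rw [h0, zero_mul] at h1; omega
    · rw [Nat.mul_div_cancel_left _ h0]
  have hz1 : ∀ j, a ≤ j → z j = 1 := by
    intro j haj
    rcases Nat.lt_or_ge j m with hj | hj
    · rw [← zpv_padUnit z m j, ← hU j haj hj]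
      exact zpv_lincomb hz ρs hρ _
    · exact hzm j hj
  rw [eq_bot_iff]
  intro g hg
  rw [Subgroup.mem_bot]
  obtain ⟨w, hw, htr⟩ := hpow g hg
  have hw0 : ∀ i < a, w.getD i 0 = 0 := by
    intro i hi
    obtain ⟨h1, h2⟩ := esChk_spec hl hes i hi (by omega)
    have h3 := htr i hi
    unfold trk at h3
    rw [wsum_single _ i (fun j hj => h2 j hj) 0 w, if_pos (Nat.zero_le _), Nat.sub_zero] at h3
    rcases mul_eq_zero.1 h3 with h4 | h4
    · exact h4
    · exact absurd h4 h1
  have hone : zpv z 0 w = 1 := by
    have := zpv_mem_of (z := z) ⊥ 0 w (by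
      intro i hi
      rw [zero_add, Subgroup.mem_bot]
      apply hz1
      by_contra hcon
      exact hi (hw0 i (by omega)))
    rwa [Subgroup.mem_bot] at this
  rw [hone, hidx] at hw
  have h1 : orderOf g ∣ O.card / N := orderOf_dvd_of_pow_eq_one hw
  have h2 : orderOf g ∣ p := orderOf_dvd_of_pow_eq_one (hexp g hg)
  have h3 : orderOf g ∣ Nat.gcd (O.card / N) p := Nat.dvd_gcd h1 h2
  rw [hcop.gcd_eq_one, Nat.dvd_one] at h3
  exact orderOf_eq_one_iff.1 h3

/-- fusion: if the elements of the words `us` are simultaneously conjugate in the group to the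
elements of the words `vs`, the kernel has exponent `p`, and `r` is a word all of whose exponent
sums are multiples of `p` whose value at the `us` is trivial in the group, then the values of `r`
at the lifts of the `us` and of the `vs` are equal -/
theorem fusion_rel (σ : Γ →* G) (hσ : Cfsg.IsStemExtension σ) (p : ℕ)
    (hexp : ∀ g ∈ σ.ker, g ^ p = 1)
    (X : ℕ → Γ) (x : ℕ → G) (hσX : ∀ i, σ (X i) = x i) (us vs : List (List ℕ)) (g : G)
    (hconj : ∀ i, g⁻¹ * ev x (us.getD i []) * g = ev x (vs.getD i []))
    (r : List ℕ) (hr : allDvd (p : ℤ) (esum r) = true)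
    (h1 : ev X (substW us r) ∈ σ.ker) :
    ev X (substW us r) = ev X (substW vs r) := by
  obtain ⟨gt, rfl⟩ := hσ.1 g
  have hσX' : (fun i => σ (X i)) = x := funext hσX
  rw [ev_substW, ev_substW]
  rw [ev_substW] at h1
  set U : ℕ → Γ := fun i => ev X (us.getD i []) with hU
  set B : ℕ → Γ := fun i => ev X (vs.getD i []) with hB
  let κ : ℕ → Γ := fun i => (B i)⁻¹ * (gt⁻¹ * U i * gt)
  have hκker : ∀ i, κ i ∈ σ.ker := by
    intro i
    have := hconj i
    rw [MonoidHom.mem_ker]
    show σ ((B i)⁻¹ * (gt⁻¹ * U i * gt)) = 1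
    rw [map_mul, map_inv, map_mul, map_mul, map_inv, hB, hU]
    simp only
    rw [ev_map, ev_map, hσX', this, inv_mul_cancel]
  have hκc : ∀ i, κ i ∈ Subgroup.center Γ := fun i => hσ.2.1 (hκker i)
  have hκp : ∀ i, κ i ^ p = 1 := fun i => hexp _ (hκker i)
  have hA : (fun i => gt⁻¹ * U i * gt) = fun i => B i * κ i := by
    funext i
    show gt⁻¹ * U i * gt = B i * ((B i)⁻¹ * (gt⁻¹ * U i * gt))
    group
  have h2 : ev (fun i => gt⁻¹ * U i * gt) r = gt⁻¹ * ev U r * gt := by
    have := ev_map (MulAut.conj gt⁻¹).toMonoidHom U r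
    simp only [MulEquiv.coe_toMonoidHom, MulAut.conj_apply, inv_inv] at this
    exact this.symm
  have h3 : gt⁻¹ * ev U r * gt = ev U r := by
    have hc := Subgroup.mem_center_iff.1 (hσ.2.1 h1) gt⁻¹
    rw [hc, mul_assoc, inv_mul_cancel, mul_one]
  rw [← h3, ← h2, hA, ev_shift B κ hκc, zpv_allDvd κ p hκp _ hr, mul_one]

/-- an element of the kernel that is killed by a number prime to `p` and by `p` is trivial -/
theorem eq_one_of_pow_coprime {g : Γ} {n p : ℕ} (hcop : Nat.Coprime n p) (h1 : g ^ n = 1)
    (h2 : g ^ p = 1) : g = 1 := by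
  have h3 : orderOf g ∣ Nat.gcd n p :=
    Nat.dvd_gcd (orderOf_dvd_of_pow_eq_one h1) (orderOf_dvd_of_pow_eq_one h2)
  rw [hcop.gcd_eq_one, Nat.dvd_one] at h3
  exact orderOf_eq_one_iff.1 h3

/-- a cyclic subgroup of prime order `p` kills the kernels of exponent `p`, if `p ^ 2` does not
divide the order of the group -/
theorem cyclic_part [Finite Γ] (O : Oracle G) (σ : Γ →* G) (hσ : Cfsg.IsStemExtension σ)
    (p : ℕ) (hp : p.Prime) (w : List ℕ) (hok : O.ok w = true) (hok0 : O.ok [] = true)
    (hfix : O.fixB (powW w p) = true)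
    (hmove : Nat.beq (O.keyW w) (O.keyW []) = false)
    (hcop : Nat.Coprime (O.card / p) p) (hexp : ∀ g ∈ σ.ker, g ^ p = 1) : σ.ker = ⊥ := by
  have : Fact p.Prime := ⟨hp⟩
  have hpow : ∀ n : ℕ, O.el (powW w n) = O.el w ^ n := by
    intro n
    unfold powW
    induction n with
    | zero => simpa using O.el_nil
    | succ n ih => rw [List.replicate_succ, List.flatten_cons, O.el_append, ih, pow_succ']
  have hord : orderOf (O.el w) = p := by
    apply orderOf_eq_prime
    · rw [← hpow]
      exact O.el_eq_one _ hfix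
    · intro h
      have h1 : O.el w = O.el [] := by rw [h, O.el_nil]
      have h2 := O.keyW_eq _ _ hok hok0 h1
      rw [h2] at hmove
      have : Nat.beq (O.keyW []) (O.keyW []) = true := Nat.beq_refl _
      rw [this] at hmove
      exact Bool.noConfusion hmove
  have hidx : (Subgroup.zpowers (O.el w)).index = O.card / p := by
    have h1 := Subgroup.card_mul_index (Subgroup.zpowers (O.el w))
    rw [Nat.card_zpowers, hord, O.card_eq] at h1
    rw [← h1, Nat.mul_div_cancel_left _ hp.pos]
  rw [eq_bot_iff]
  intro g hg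
  rw [Subgroup.mem_bot]
  have h1 := Cfsg.Agent.Helper96.StemBound.ker_pow_index_zpowers σ hσ (O.el w) hg
  rw [hidx] at h1
  exact eq_one_of_pow_coprime hcop h1 (hexp g hg)

/-- the primes that do not divide the order of the group -/
theorem coprime_part [Finite Γ] (O : Oracle G) (σ : Γ →* G) (hσ : Cfsg.IsStemExtension σ)
    (p : ℕ) (hp : p.Prime) (hnd : ¬ p ∣ O.card) (hexp : ∀ g ∈ σ.ker, g ^ p = 1) :
    σ.ker = ⊥ := by
  have hidx : (Subgroup.zpowers (1 : G)).index = O.card := by
    have h1 := Subgroup.card_mul_index (Subgroup.zpowers (1 : G))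
    rw [Nat.card_zpowers, orderOf_one, one_mul, O.card_eq] at h1
    exact h1
  have hcop : Nat.Coprime O.card p := by
    rw [Nat.coprime_comm, Nat.Prime.coprime_iff_not_dvd hp]
    exact hnd
  rw [eq_bot_iff]
  intro g hg
  rw [Subgroup.mem_bot]
  have h1 := Cfsg.Agent.Helper96.StemBound.ker_pow_index_zpowers σ hσ (1 : G) hg
  rw [hidx] at h1
  exact eq_one_of_pow_coprime hcop h1 (hexp g hg)

end Fin

/-- a group with a word oracle is finite -/
theorem finite_of_oracle {G : Type u} [Group G] (O : Oracle G) (h : O.card ≠ 0) : Finite G := by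
  apply Nat.finite_of_card_ne_zero
  rw [O.card_eq]
  exact h

/-- the Schur multiplier is trivial if the kernels of prime exponent `p` of the finite stem
extensions are trivial for the primes `p` that divide the order of the group -/
theorem mult_one_of_parts {G : Type u} [Group G] (O : Oracle G) (hcard : O.card ≠ 0)
    (h : ∀ p : ℕ, p.Prime → p ∣ O.card → ∀ (Γ : Type u) [Group Γ] [Finite Γ] (σ : Γ →* G),
      Cfsg.IsStemExtension σ → (∀ g ∈ σ.ker, g ^ p = 1) → σ.ker = ⊥) :
    Cfsg.HasCyclicSchurMultiplier G 1 := by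
  have := finite_of_oracle O hcard
  apply Cfsg.Agent.Helper66.hasCyclicSchurMultiplier_one_of_forall
  intro Γ _ _ σ hσ
  refine Cfsg.Agent.Helper98.HeM.ker_eq_bot_of_exponent (G := G) ?_ σ hσ
  intro p hp Δ _ _ τ hτ hexp
  by_cases hd : p ∣ O.card
  · exact h p hp hd Δ τ hτ hexp
  · exact coprime_part O τ hτ p hp hd hexp

end Cfsg.Agent.Helper98.StemKit
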