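import Mathlib
import Cfsg.Prelude.Def_KGroupFacts
import Cfsg.Agent.Helper7.ModTC.LinGen
import Cfsg.Agent.Helper98.J3Grp

/-!
# Labelled coset tables over a group given by a word oracle

The generic form of `Helper98/HeMult/Glue.lean`.  A *word oracle* for a group `G` evaluates words
in natural-number letters to elements of `G`, has a Boolean test `fixB` that is sound for
`el w = 1`, and a key function `keyW` that is constant on the words of an element.  The
hypotheses of `ModTC.stem_gen` on the side of the group then become Boolean checks on the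
computational part `Chk` of the oracle, which does not mention the group.
-/

set_option autoImplicit false
set_option linter.unusedSectionVars false

namespace Cfsg.Agent.Helper98.StemKit

open Cfsg.Agent.Helper7.ModTC

universe u

/-- the computational part of a word oracle -/
structure Chk where
  /-- the inverse word -/
  invW : List ℕ → List ℕ
  /-- the letters of the word are letters of the oracle -/
  ok : List ℕ → Bool
  /-- a sufficient test for the word to be trivial -/
  fixB : List ℕ → Bool
  /-- a key of the element of the word -/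
  keyW : List ℕ → ℕ

/-- a word oracle for the group `G` -/
structure Oracle (G : Type u) [Group G] extends Chk where
  /-- the element of a word -/
  el : List ℕ → G
  /-- the order of the group -/
  card : ℕ
  card_eq : Nat.card G = card
  el_nil : el [] = 1
  el_append : ∀ u w, el (u ++ w) = el u * el w
  el_invW : ∀ w, el (invW w) = (el w)⁻¹
  ok_append : ∀ u w, ok u = true → ok w = true → ok (u ++ w) = true
  el_eq_one : ∀ w, fixB w = true → el w = 1
  keyW_eq : ∀ u w, ok u = true → ok w = true → el u = el w → keyW u = keyW w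

/-! ### words in the generators of a subgroup -/

/-- expansion of a word in the letters of the subgroup -/
def expand (li : List (List ℕ)) : List ℕ → List ℕ
  | [] => []
  | l :: w => li.getD l [] ++ expand li w

theorem expand_append (li : List (List ℕ)) (u w : List ℕ) :
    expand li (u ++ w) = expand li u ++ expand li w := by
  induction u with
  | nil => rfl
  | cons l u ih => simp [expand, ih]

/-- the words of the letters are words of letters, their number is even, and the odd ones are the
inverse words of the even ones -/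
def liOK (C : Chk) (li : List (List ℕ)) : Bool :=
  C.ok [] && (li.length % 2 == 0) && (li.all C.ok) && (List.range (li.length / 2)).all fun i =>
    li.getD (2 * i + 1) [] == C.invW (li.getD (2 * i) [])

theorem liOK_nil {C : Chk} {li : List (List ℕ)} (h : liOK C li = true) : C.ok [] = true := by
  simp only [liOK, Bool.and_eq_true] at h
  exact h.1.1.1

theorem liOK_even {C : Chk} {li : List (List ℕ)} (h : liOK C li = true) : li.length % 2 = 0 := by
  simp only [liOK, Bool.and_eq_true, beq_iff_eq] at h
  exact h.1.1.2

theorem liOK_let {C : Chk} {li : List (List ℕ)} (h : liOK C li = true) (l : ℕ) :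
    C.ok (li.getD l []) = true := by
  have h0 := liOK_nil h
  simp only [liOK, Bool.and_eq_true, List.all_eq_true] at h
  rcases Nat.lt_or_ge l li.length with hl | hl
  · rw [List.getD_eq_getElem _ _ hl]
    exact h.1.2 _ (List.getElem_mem hl)
  · rw [List.getD_eq_default _ _ hl]
    exact h0

theorem liOK_inv {C : Chk} {li : List (List ℕ)} (h : liOK C li = true) (i : ℕ)
    (hi : 2 * i < li.length) :
    li.getD (2 * i + 1) [] = C.invW (li.getD (2 * i) []) := by
  have he := liOK_even h
  simp only [liOK, Bool.and_eq_true, List.all_eq_true, List.mem_range, beq_iff_eq] at h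
  exact h.2 i (by omega)

section Or

variable {G : Type u} [Group G] (O : Oracle G)

theorem ok_expand {li : List (List ℕ)} (h : liOK O.toChk li = true) (w : List ℕ) :
    O.ok (expand li w) = true := by
  induction w with
  | nil => exact liOK_nil h
  | cons l w ih => exact O.ok_append _ _ (liOK_let h l) ih

/-- the generators of the subgroup -/
def xOf (li : List (List ℕ)) (i : ℕ) : G := O.el (li.getD (2 * i) [])

theorem el_invW_nil : O.el (O.invW []) = 1 := by
  rw [O.el_invW, O.el_nil, inv_one]

theorem evL_xOf {li : List (List ℕ)} (h : liOK O.toChk li = true) (l : ℕ) :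
    evL (xOf O li) l = O.el (li.getD l []) := by
  unfold evL xOf
  rcases Nat.mod_two_eq_zero_or_one l with hl | hl
  · rw [if_pos hl, show 2 * (l / 2) = l by omega]
  · rw [if_neg (by omega)]
    rcases Nat.lt_or_ge (2 * (l / 2)) li.length with h2 | h2
    · rw [← O.el_invW, ← liOK_inv h _ h2, show 2 * (l / 2) + 1 = l by omega]
    · rw [List.getD_eq_default _ _ h2, List.getD_eq_default _ _ (by omega), O.el_nil, inv_one]

theorem ev_xOf {li : List (List ℕ)} (h : liOK O.toChk li = true) (w : List ℕ) :
    ev (xOf O li) w = O.el (expand li w) := by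
  induction w with
  | nil => exact O.el_nil.symm
  | cons l w ih => rw [ev_cons, ih, evL_xOf O h, expand, O.el_append]

end Or

/-! ### packed tables -/

/-- evaluate a natural number first -/
def withN {α : Type} [Inhabited α] (v : ℕ) (f : ℕ → α) : α :=
  match v + 1 with
  | 0 => default
  | n + 1 => f n

theorem withN_eq {α : Type} [Inhabited α] (v : ℕ) (f : ℕ → α) : withN v f = f v := rfl

/-- field `i` of width `w` of a packed table -/
def fd (T w i : ℕ) : ℕ :=
  Nat.land (Nat.shiftRight T (Nat.mul w i)) (Nat.sub (Nat.shiftLeft 1 w) 1)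

/-- chunk `q` of a two-level table -/
def chunk (L : List (List ℕ)) (q : ℕ) : ℕ := (L.getD (q / 16) []).getD (q % 16) 0

/-- the keys `kf` are strictly increasing along the sorting map `sig` -/
def sortedK (kf : ℕ → ℕ) (n w sig : ℕ) : Bool :=
  (List.range (n - 1)).all fun k =>
    withN (fd sig w k) fun a => withN (fd sig w (k + 1)) fun b =>
      decide (a < n) && decide (b < n) && decide (kf a < kf b)

theorem sortedK_spec {kf : ℕ → ℕ} {n w sig : ℕ} (h : sortedK kf n w sig = true) (k : ℕ)
    (hk : k + 1 < n) :
    fd sig w k < n ∧ fd sig w (k + 1) < n ∧ kf (fd sig w k) < kf (fd sig w (k + 1)) := by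
  simp only [sortedK, List.all_eq_true, List.mem_range, withN_eq, Bool.and_eq_true,
    decide_eq_true_eq] at h
  obtain ⟨⟨h1, h2⟩, h3⟩ := h k (by omega)
  exact ⟨h1, h2, h3⟩

/-- the same for a sorting map in two levels: entry `k` is field `k % cs` of chunk `k / cs` -/
def sortedK2 (kf : ℕ → ℕ) (n w cs : ℕ) (sigL : List (List ℕ)) : Bool :=
  (List.range (n - 1)).all fun k =>
    withN (fd (chunk sigL (k / cs)) w (k % cs)) fun a =>
      withN (fd (chunk sigL ((k + 1) / cs)) w ((k + 1) % cs)) fun b =>
        decide (a < n) && decide (b < n) && decide (kf a < kf b)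

theorem sortedK2_spec {kf : ℕ → ℕ} {n w cs : ℕ} {sigL : List (List ℕ)}
    (h : sortedK2 kf n w cs sigL = true) (k : ℕ) (hk : k + 1 < n) :
    fd (chunk sigL (k / cs)) w (k % cs) < n ∧
      fd (chunk sigL ((k + 1) / cs)) w ((k + 1) % cs) < n ∧
      kf (fd (chunk sigL (k / cs)) w (k % cs)) <
        kf (fd (chunk sigL ((k + 1) / cs)) w ((k + 1) % cs)) := by
  simp only [sortedK2, List.all_eq_true, List.mem_range, withN_eq, Bool.and_eq_true,
    decide_eq_true_eq] at h
  obtain ⟨⟨h1, h2⟩, h3⟩ := h k (by omega)
  exact ⟨h1, h2, h3⟩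

/-! ### the checks -/

/-- the check of the relators and of the words with zero exponent sums -/
def relChk (C : Chk) (li : List (List ℕ)) (a m k : ℕ) (relsL zwsL : List (List ℕ)) : Bool :=
  ((List.range m).all fun b => C.fixB (expand li (relsL.getD b []))) &&
  ((List.range k).all fun i => C.fixB (expand li (zwsL.getD i [] ++ [2 * i + 1])) &&
    (if i < a then zwsL.getD i [] == [2 * i] else Cert.isZero (esum (zwsL.getD i []))))

/-- the check of the key of a node -/
def nodeChk (C : Chk) (li : List (List ℕ)) (T : Cert) (kf : ℕ → ℕ) (c : ℕ) : Bool :=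
  Nat.beq (C.keyW (expand li (T.tw c))) (kf c)

/-- the check of the keys of a range of nodes -/
def nodeRange (C : Chk) (li : List (List ℕ)) (T : Cert) (kf : ℕ → ℕ) (lo len : ℕ) : Bool :=
  (List.range len).all fun i => nodeChk C li T kf (lo + i)

theorem nodeRange_spec {C : Chk} {li : List (List ℕ)} {T : Cert} {kf : ℕ → ℕ} {lo len : ℕ}
    (h : nodeRange C li T kf lo len = true) {c : ℕ} (h1 : lo ≤ c) (h2 : c < lo + len) :
    nodeChk C li T kf c = true := by
  simp only [nodeRange, List.all_eq_true, List.mem_range] at h
  have := h (c - lo) (by omega)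
  rwa [show lo + (c - lo) = c by omega] at this

/-! ### the main theorem -/

/-- the Boolean checks give the conclusion of `ModTC.stem_gen` for the subgroup generated by the
elements of the words `li`; `hinj` is the injectivity of the keys on the nodes, from `sortedK` or
`sortedK2` and `inj_of_sorted` -/
theorem glue {G : Type u} [Group G] (O : Oracle G) {Γ : Type u} [Group Γ] [Finite Γ]
    (σ : Γ →* G) (hσ : Cfsg.IsStemExtension σ) (C : Cert) (a k m : ℕ)
    (relsL zwsL : List (List ℕ)) (li : List (List ℕ)) (kf : ℕ → ℕ)
    (hnl : C.nl = 2 * k)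
    (hbase : C.base = mkBase m k (fun b => relsL.getD b []) (fun i => zwsL.getD i []))
    (hk : li.length = 2 * k) (hzl : zwsL.length = k) (hak : a ≤ k)
    (hli : liOK O.toChk li = true) (hrel : relChk O.toChk li a m k relsL zwsL = true)
    (hnode : ∀ c < C.N, nodeChk O.toChk li C kf c = true)
    (hinj : ∀ i j, i < C.N → j < C.N → kf i = kf j → i = j)
    (htw0 : C.tw 0 = []) (hN : 0 < C.N)
    (hchk : ∀ c l, c < C.N → l < C.nl → C.chkEdge c l = true) :
    Nat.card (Subgroup.closure (Set.range (xOf O li))) = C.N ∧
    ∃ X z : ℕ → Γ, (∀ i, σ (X i) = xOf O li i) ∧ (∀ j, z j ∈ σ.ker) ∧ (∀ j, m ≤ j → z j = 1) ∧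
      (∀ bd b s ρ, C.relVec bd b s = some ρ → zpv z 0 ρ = 1) ∧
      (∀ bd w v, C.walk bd 0 w = some (0, v) → ev X w = zpv z 0 v) ∧
      ∀ g ∈ σ.ker, ∃ w : List ℤ,
        g ^ (Subgroup.closure (Set.range (xOf O li))).index = zpv z 0 w ∧
          ∀ i < a, trk (fun b => relsL.getD b []) i w = 0 := by
  simp only [relChk, Bool.and_eq_true, List.all_eq_true, List.mem_range] at hrel
  obtain ⟨hr1, hr2⟩ := hrel
  refine stem_gen σ hσ C a k m (fun b => relsL.getD b []) (fun i => zwsL.getD i [])
    (xOf O li) hnl hbase ?_ ?_ ?_ ?_ ?_ ?_ ?_ htw0 hN hchk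
  · intro i hi
    unfold xOf
    rw [List.getD_eq_default _ _ (by omega)]
    exact O.el_nil
  · intro i hi
    exact List.getD_eq_default _ _ (by omega)
  · intro b hb
    rw [ev_xOf O hli]
    exact O.el_eq_one _ (hr1 b hb)
  · intro i hi
    have h1 := O.el_eq_one _ (hr2 i hi).1
    rw [← ev_xOf O hli, ev_append, ev_singleton] at h1
    have h2 : evL (xOf O li) (2 * i + 1) = (xOf O li i)⁻¹ := by
      unfold evL
      rw [if_neg (by omega)]
      congr 2
      omega
    rw [h2] at h1
    exact mul_inv_eq_one.1 h1
  · intro i hi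
    have := (hr2 i (by omega)).2
    rw [if_pos hi] at this
    exact beq_iff_eq.1 this
  · intro i hai hi
    have := (hr2 i hi).2
    rw [if_neg (by omega)] at this
    exact this
  · intro c hc c' hc' e
    rw [ev_xOf O hli, ev_xOf O hli] at e
    have h1 := O.keyW_eq _ _ (ok_expand O hli _) (ok_expand O hli _) e
    have h2 := Nat.eq_of_beq_eq_true (hnode c hc)
    have h3 := Nat.eq_of_beq_eq_true (hnode c' hc')
    exact hinj c c' hc hc' (by rw [← h2, ← h3, h1])

/-- injectivity of the keys from `sortedK` -/
theorem inj_of_sortedK {kf : ℕ → ℕ} {n w sig : ℕ} (h : sortedK kf n w sig = true) :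
    ∀ i j, i < n → j < n → kf i = kf j → i = j := by
  intro i j hi hj e
  exact Cfsg.Agent.Helper98.J3.inj_of_sorted kf (fun k => fd sig w k) n
    (fun k hk => sortedK_spec h k hk) hi hj e

/-- injectivity of the keys from `sortedK2` -/
theorem inj_of_sortedK2 {kf : ℕ → ℕ} {n w cs : ℕ} {sigL : List (List ℕ)}
    (h : sortedK2 kf n w cs sigL = true) :
    ∀ i j, i < n → j < n → kf i = kf j → i = j := by
  intro i j hi hj e
  exact Cfsg.Agent.Helper98.J3.inj_of_sorted kf
    (fun k => fd (chunk sigL (k / cs)) w (k % cs)) n
    (fun k hk => sortedK2_spec h k hk) hi hj e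

end Cfsg.Agent.Helper98.StemKit
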